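import Mathlib
import Cfsg.Agent.Core.Basics
import Cfsg.Agent.Coprime.Tools
import Cfsg.Agent.Fusion.Residual
import Cfsg.Agent.Fusion.Control
import Cfsg.Agent.Invol.KleinSylow
import Cfsg.Agent.Invol.Count

/-!
No group with fifteen Sylow subgroups of order seven, small centralizer of such a subgroup, and no proper
nontrivial characteristic subgroup.
-/

set_option autoImplicit false

namespace Cfsg.Agent.SylowFifteen

open Subgroup

variable {G : Type*} [Group G] [Finite G]

theorem hasNormalPComplement_of_burnside {p : ℕ} [Fact p.Prime] (S : Sylow p G)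
    (h : normalizer (S : Set G) ≤ centralizer (S : Set G)) : HasNormalPComplement p G :=
  ⟨S, (MonoidHom.transferSylow S h).ker, inferInstance, MonoidHom.ker_transferSylow_isComplement' S h⟩

theorem no_small (P : Sylow 7 G) (hP : Nat.card (P : Subgroup G) = 7)
    (hC : Nat.card (centralizer ((P : Subgroup G) : Set G)) ∣ 14)
    (h15 : Nat.card (Sylow 7 G) = 15)
    (hmin : ∀ K : Subgroup G, K.Characteristic → K = ⊥ ∨ K = ⊤) : False := by
  have : Fact (Nat.Prime 7) := ⟨by norm_num⟩
  set H := normalizer ((P : Subgroup G) : Set G) with hH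
  set C := centralizer ((P : Subgroup G) : Set G) with hCdef
  have hCH : C ≤ H := centralizer_le_normalizer _
  have hPH : (P : Subgroup G) ≤ H := le_normalizer
  have hPcyc : IsCyclic (P : Subgroup G) := isCyclic_of_prime_card hP
  have hPcomm : ∀ a ∈ (P : Subgroup G), ∀ b ∈ (P : Subgroup G), a * b = b * a :=
    have : IsMulCommutative (P : Subgroup G) := IsCyclic.isMulCommutative
    fun a ha b hb => setLike_mul_comm ha hb
  have hPC : (P : Subgroup G) ≤ C := fun a ha =>
    mem_centralizer_iff.mpr fun b hb => hPcomm b hb a ha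
  have he : C.relIndex H ∣ 6 := by
    have key := card_dvd_of_injective _
      (QuotientGroup.kerLift_injective (P : Subgroup G).normalizerMonoidHom)
    rw [normalizerMonoidHom_ker, ← index, ← relIndex, hPcyc.card_mulAut, hP,
      Nat.totient_prime (by norm_num)] at key
    exact key
  have hcH : Nat.card C * C.relIndex H = Nat.card H := by
    rw [← relIndex_bot_left, ← relIndex_bot_left]
    exact relIndex_mul_relIndex ⊥ C H bot_le hCH
  have hH84 : Nat.card H ∣ 84 := hcH ▸ Nat.mul_dvd_mul hC he
  have hindex : H.index = 15 := by rw [hH, ← h15]; exact (P.card_eq_index_normalizer).symm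
  have hG : Nat.card G = Nat.card H * 15 := by rw [← hindex, card_mul_index]
  have h7H : 7 ∣ Nat.card H := hP ▸ card_dvd_of_le hPH
  have hG1260 : Nat.card G ∣ 1260 := hG ▸ Nat.mul_dvd_mul_right hH84 15
  have h3G : 3 ∣ Nat.card G := hG ▸ (by norm_num : 3 ∣ 15).trans (Dvd.intro_left _ rfl)
  have h7G : 7 ∣ Nat.card G := h7H.trans (card_subgroup_dvd_card H)
  have hno : ∀ p : ℕ, p.Prime → p ∣ Nat.card G → HasNormalPComplement p G → False := by
    intro p hp hpd hc
    have := Fact.mk hp
    rcases hmin (pResidual p G) Fusion.pResidual_characteristic with h | h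
    · obtain ⟨k, hk⟩ := IsPGroup.iff_card.mp
        ((Fusion.isPGroup_quotient_pResidual (p := p) (G := G)).of_equiv
          ((QuotientGroup.quotientMulEquivOfEq h).trans QuotientGroup.quotientBot))
      have h1 := (Nat.prime_dvd_prime_iff_eq Nat.prime_three hp).mp
        (Nat.prime_three.dvd_of_dvd_pow (hk ▸ h3G))
      have h2 := (Nat.prime_dvd_prime_iff_eq (by norm_num) hp).mp
        ((Fact.out : Nat.Prime 7).dvd_of_dvd_pow (hk ▸ h7G))
      omega
    · have h1 := Fusion.coprime_card_pResidual_of_hasNormalPComplement hc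
      rw [h, card_top] at h1
      exact hp.coprime_iff_not_dvd.mp h1.symm hpd
  have hHC : ¬ H ≤ C := fun h => hno 7 (Fact.out) h7G (hasNormalPComplement_of_burnside P h)
  -- the order is divisible by four
  have : Fact (Nat.Prime 2) := ⟨Nat.prime_two⟩
  have : Fact (Nat.Prime 3) := ⟨Nat.prime_three⟩
  have h4 : 4 ∣ Nat.card G := by
    by_contra h4
    obtain ⟨S⟩ : Nonempty (Sylow 2 G) := inferInstance
    obtain ⟨k, hk⟩ := IsPGroup.iff_card.mp S.isPGroup'
    have hk1 : k ≤ 1 := by
      by_contra hk1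
      exact h4 ((pow_dvd_pow 2 (by omega : 2 ≤ k)).trans (hk ▸ card_subgroup_dvd_card _))
    by_cases h2 : 2 ∣ Nat.card G
    · refine hno 2 Nat.prime_two h2 (hasNormalPComplement_of_burnside S
        (IsCyclic.normalizer_le_centralizer ((Nat.minFac_eq_two_iff _).mpr h2) ?_))
      interval_cases k
      · have := (Nat.card_eq_one_iff_unique.mp (hk.trans (pow_zero 2))).1
        exact isCyclic_of_subsingleton
      · exact isCyclic_of_prime_card (p := 2) (by rw [hk, pow_one])
    · obtain ⟨T⟩ : Nonempty (Sylow 3 G) := inferInstance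
      obtain ⟨m, hm⟩ := IsPGroup.iff_card.mp T.isPGroup'
      have hm2 : m ≤ 2 := by
        by_contra hm2
        have h27 := ((pow_dvd_pow 3 (by omega : 3 ≤ m)).trans (hm ▸ card_subgroup_dvd_card _)).trans hG1260
        norm_num at h27
      have hcomm : IsMulCommutative (T : Subgroup G) := by
        interval_cases m
        · have := (Nat.card_eq_one_iff_unique.mp (hm.trans (pow_zero 3))).1
          exact ⟨⟨fun a b => Subsingleton.elim _ _⟩⟩
        · have := isCyclic_of_prime_card (p := 3) (by rw [hm, pow_one])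
          exact IsCyclic.isMulCommutative
        · exact IsPGroup.isMulCommutative_of_card_eq_prime_sq hm
      refine hno 3 Nat.prime_three h3G (hasNormalPComplement_of_burnside T
        (Fusion.normalizer_le_centralizer_of_primePow T hcomm fun q hq hq3 hqd n hn hnq => ?_))
      have := Fact.mk hq
      refine Fusion.mem_centralizer_of_card_modEq hn hnq fun d hd hne => ?_
      have hq57 : q = 5 ∨ q = 7 := by
        have hd1 : q ∈ Nat.divisors 1260 := Nat.mem_divisors.mpr ⟨hqd.trans hG1260, by norm_num⟩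
        have h1 : ∀ r ∈ Nat.divisors 1260, r.Prime → r = 2 ∨ r = 3 ∨ r = 5 ∨ r = 7 := by decide +kernel
        rcases h1 q hd1 hq with rfl | rfl | h | h
        · exact absurd hqd h2
        · exact absurd rfl hq3
        · exact Or.inl h
        · exact Or.inr h
      rw [hm] at hd hne ⊢
      have hdle : d < 10 := lt_of_le_of_lt (Nat.le_of_dvd (by positivity) hd)
        (lt_of_le_of_lt (pow_le_pow_right₀ (by norm_num) hm2) (by norm_num))
      have key : ∀ r ∈ [5, 7], ∀ j < 3, ∀ e < 10, e ∣ 3 ^ j → e ≠ 3 ^ j → e % r ≠ 3 ^ j % r := by decide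
      exact key q (by rcases hq57 with rfl | rfl <;> simp) m (by omega) d hdle hd hne
  have h4H : 4 ∣ Nat.card H := Nat.Coprime.dvd_of_dvd_mul_right (by norm_num) (hG ▸ h4)
  -- the centralizer has order fourteen
  have hC14 : Nat.card C = 14 := by
    have h1 : 7 ∣ Nat.card C := hP ▸ card_dvd_of_le hPC
    have h2 := Nat.le_of_dvd (by norm_num) hC
    have h3 := Nat.le_of_dvd Nat.card_pos h1
    by_contra h14
    have h7 : Nat.card C = 7 := by omega
    rw [h7] at hcH
    have h4e : 4 ∣ C.relIndex H := Nat.Coprime.dvd_of_dvd_mul_left (by norm_num) (hcH ▸ h4H)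
    have := h4e.trans he
    norm_num at this
  obtain ⟨t₀, ht₀⟩ := exists_prime_orderOf_dvd_card' (G := C) 2 (by rw [hC14]; norm_num)
  obtain ⟨t, htC⟩ := t₀
  rw [Subgroup.orderOf_mk] at ht₀
  have ht2 : t * t = 1 := by rw [← sq, ← ht₀, pow_orderOf_eq_one]
  have ht1 : t ≠ 1 := fun h => by rw [h, orderOf_one] at ht₀; norm_num at ht₀
  have htP : t ∉ (P : Subgroup G) := fun h => by
    have := Subgroup.orderOf_dvd_natCard _ h
    rw [ht₀, hP] at this
    norm_num at this
  have hP2 : ∀ z ∈ (P : Subgroup G), z * z = 1 → z = 1 := fun z hz hz2 => by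
    have h1 : orderOf z ∣ 2 := orderOf_dvd_of_pow_eq_one (by rw [sq, hz2])
    have h2 := Subgroup.orderOf_dvd_natCard _ hz
    rw [hP] at h2
    exact orderOf_eq_one_iff.mp (Nat.eq_one_of_dvd_coprimes (by norm_num) h1 h2)
  have hPidx : ((P : Subgroup G).subgroupOf C).index = 2 := by
    have h1 := ((P : Subgroup G).subgroupOf C).card_mul_index
    rw [Nat.card_congr (subgroupOfEquivOfLe hPC).toEquiv, hP, hC14] at h1
    omega
  -- the involution of the centralizer is unique
  have huniq : ∀ s ∈ C, s * s = 1 → s ≠ 1 → s = t := by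
    intro s hs hs2 hs1
    have hsP : s ∉ (P : Subgroup G) := fun h => hs1 (hP2 s h hs2)
    have h1 : (⟨t, htC⟩ * ⟨s, hs⟩ : C) ∈ (P : Subgroup G).subgroupOf C := by
      rw [mul_mem_iff_of_index_two hPidx, mem_subgroupOf, mem_subgroupOf]
      exact iff_of_false htP hsP
    have h2 : t * s ∈ (P : Subgroup G) := h1
    have hc : t * s * t = t * (t * s) := mem_centralizer_iff.mp htC _ h2
    have hst : s * t = t * s := by rwa [mul_assoc, mul_left_cancel_iff] at hc
    have h3 : t * s = 1 := hP2 _ h2 (by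
      calc t * s * (t * s) = t * (s * t) * s := by simp only [mul_assoc]
        _ = t * t * (s * s) := by rw [hst]; simp only [mul_assoc]
        _ = 1 := by rw [ht2, hs2, one_mul])
    calc s = t * t * s := by rw [ht2, one_mul]
      _ = t * (t * s) := mul_assoc _ _ _
      _ = t := by rw [h3, mul_one]
  -- it is central in the normalizer
  have hHt : H ≤ centralizer {t} := by
    intro h hh
    rw [mem_centralizer_singleton_iff]
    have h1 : h * t * h⁻¹ ∈ C := by
      rw [hCdef, mem_centralizer_iff]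
      intro z hz
      have h2 := mem_centralizer_iff.mp htC (h⁻¹ * z * h) ((mem_normalizer_iff''.mp hh z).mp hz)
      calc z * (h * t * h⁻¹) = h * (h⁻¹ * z * h * t) * h⁻¹ := by group
        _ = h * (t * (h⁻¹ * z * h)) * h⁻¹ := by rw [h2]
        _ = h * t * h⁻¹ * z := by group
    have h2 := huniq _ h1 (by rw [← sq, conj_pow, sq, ht2, mul_one, mul_inv_cancel])
      (fun h' => ht1 (conj_eq_one_iff.mp h'))
    exact (mul_inv_eq_iff_eq_mul.mp h2)
  -- a Sylow 2-subgroup inside the normalizer
  obtain ⟨V₀⟩ : Nonempty (Sylow 2 H) := inferInstance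
  have hfact : ∀ n : ℕ, 4 ∣ n → n ∣ 1260 → n.factorization 2 = 2 := by
    intro n h4n hn
    have hn0 : n ≠ 0 := by rintro rfl; norm_num at hn
    have h1 : 2 ≤ n.factorization 2 :=
      (Nat.prime_two.pow_dvd_iff_le_factorization hn0).mp (by norm_num; exact h4n)
    by_contra hne
    have h3 : 2 ^ 3 ∣ n := (Nat.prime_two.pow_dvd_iff_le_factorization hn0).mpr (by omega)
    have := h3.trans hn
    norm_num at this
  have hV₀ : Nat.card (V₀ : Subgroup H) = 4 := by
    rw [V₀.card_eq_multiplicity, hfact _ h4H (hH84.trans (by norm_num))]; norm_num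
  obtain ⟨V, hV⟩ : ∃ V : Sylow 2 G, (V : Subgroup G) = (V₀ : Subgroup H).map H.subtype := by
    refine ⟨Sylow.ofCard ((V₀ : Subgroup H).map H.subtype) ?_, rfl⟩
    rw [card_map_of_injective H.subtype_injective, hV₀, hfact _ h4 hG1260]; norm_num
  have hVH : (V : Subgroup G) ≤ H := hV ▸ map_subtype_le _
  have hV4 : Nat.card (V : Subgroup G) = 4 := by
    rw [hV, card_map_of_injective H.subtype_injective, hV₀]
  have h2G : 2 ∣ Nat.card G := (by norm_num : 2 ∣ 4).trans h4
  have hVnc : ¬ IsCyclic (V : Subgroup G) := fun hc => hno 2 Nat.prime_two h2G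
    (hasNormalPComplement_of_burnside V
      (IsCyclic.normalizer_le_centralizer ((Nat.minFac_eq_two_iff _).mpr h2G) hc))
  have hVsq : ∀ v ∈ (V : Subgroup G), v * v = 1 := by
    intro v hv
    have h1 : orderOf (⟨v, hv⟩ : (V : Subgroup G)) ∣ 4 := hV4 ▸ orderOf_dvd_natCard _
    have h2 : orderOf (⟨v, hv⟩ : (V : Subgroup G)) ≠ 4 := fun h =>
      hVnc (isCyclic_of_orderOf_eq_card _ (h.trans hV4.symm))
    have h3 := Nat.le_of_dvd (by norm_num) h1
    have h4 : orderOf (⟨v, hv⟩ : (V : Subgroup G)) ∣ 2 := by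
      generalize orderOf (⟨v, hv⟩ : (V : Subgroup G)) = o at h1 h2 h3
      (interval_cases o) <;> first | omega | norm_num
    rw [← sq]
    exact congrArg Subtype.val (orderOf_dvd_iff_pow_eq_one.mp h4)
  have htV : t ∈ (V : Subgroup G) := by
    have hz : zpowers t ≤ normalizer ((V : Subgroup G) : Set G) := by
      rw [zpowers_le]
      refine mem_normalizer_fintype fun v hv => ?_
      rw [← mem_centralizer_singleton_iff.mp (hHt (hVH hv)), mul_inv_cancel_right]
      exact hv
    have h1 : IsPGroup 2 (zpowers t) := IsPGroup.of_card (n := 1) (by rw [Nat.card_zpowers, ht₀, pow_one])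
    have h2 : IsPGroup 2 (zpowers t ⊔ (V : Subgroup G) : Subgroup G) :=
      h1.to_sup_of_normal_right' V.isPGroup' hz
    exact V.3 h2 le_sup_right ▸ mem_sup_left (mem_zpowers t)
  obtain ⟨u, huV, hu1, hut⟩ : ∃ u ∈ (V : Subgroup G), u ≠ 1 ∧ u ≠ t := by
    by_contra hc
    push Not at hc
    classical
    have : Nat.card (V : Subgroup G) ≤ 2 := by
      refine (Nat.card_le_card_of_injective (fun v : (V : Subgroup G) => decide ((v : G) = 1)) ?_).trans
        (by simp)
      intro v w hvw
      simp only [decide_eq_decide] at hvw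
      apply Subtype.ext
      by_cases hv : (v : G) = 1
      · rw [hv, hvw.mp hv]
      · rw [hc v v.2 hv, hc w w.2 fun hw => hv (hvw.mpr hw)]
    omega
  have hu2 := hVsq u huV
  have huC : u ∉ C := fun h => hut (huniq u h hu2 hu1)
  have hu_inv : u⁻¹ = u := inv_eq_of_mul_eq_one_right hu2
  have hinv : ∀ a ∈ (P : Subgroup G), u * a * u⁻¹ = a⁻¹ := by
    intro a ha
    have hb : u * a * u⁻¹ ∈ (P : Subgroup G) := (mem_normalizer_iff.mp (hVH huV) a).mp ha
    by_contra hne
    have hw1 : a * (u * a * u⁻¹) ≠ 1 := fun h => hne (inv_eq_of_mul_eq_one_right h).symm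
    have hwc : u * (a * (u * a * u⁻¹)) * u⁻¹ = a * (u * a * u⁻¹) := by
      rw [show u * (a * (u * a * u⁻¹)) * u⁻¹ = u * a * u⁻¹ * (u * u * a * (u * u)⁻¹) by group, hu2,
        hPcomm a ha _ hb]
      simp
    set w := a * (u * a * u⁻¹) with hw
    have hwP : w ∈ (P : Subgroup G) := mul_mem ha hb
    have hgen : (P : Subgroup G) ≤ zpowers w := by
      refine (eq_of_le_of_card_ge (zpowers_le.mpr hwP) ?_).ge
      rw [Nat.card_zpowers, hP]
      have h1 : orderOf w ∣ 7 := hP ▸ Subgroup.orderOf_dvd_natCard _ hwP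
      rcases (Nat.dvd_prime (Fact.out : Nat.Prime 7)).mp h1 with h | h
      · exact absurd (orderOf_eq_one_iff.mp h) hw1
      · exact h.ge
    apply huC
    rw [hCdef, mem_centralizer_iff]
    intro z hz
    obtain ⟨i, rfl⟩ := mem_zpowers_iff.mp (hgen hz)
    have h1 : Commute u w := mul_inv_eq_iff_eq_mul.mp hwc
    exact (h1.zpow_right i).eq.symm
  -- fifteen involutions inside the normalizer
  let f : Option ((P : Subgroup G) ⊕ (P : Subgroup G)) → G :=
    fun o => o.elim t (Sum.elim (fun a => (a : G) * u) fun a => (a : G) * u * t)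
  have hautC : ∀ a ∈ (P : Subgroup G), a * u ∉ C := fun a ha h =>
    huC ((C.mul_mem_cancel_left (hPC ha)).mp h)
  have hfH : ∀ o, f o ∈ H := by
    rintro (_ | a | a)
    · exact hCH htC
    · exact mul_mem (hPH a.2) (hVH huV)
    · exact mul_mem (mul_mem (hPH a.2) (hVH huV)) (hCH htC)
  have hfinv : ∀ o, orderOf (f o) = 2 := by
    have hsq : ∀ a ∈ (P : Subgroup G), a * u * (a * u) = 1 := fun a ha => by
      calc a * u * (a * u) = a * (u * a * u⁻¹) := by rw [hu_inv]; simp only [mul_assoc]
        _ = 1 := by rw [hinv a ha, mul_inv_cancel]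
    rintro (_ | a | a) <;> refine orderOf_eq_prime ?_ ?_
    · rw [sq]; exact ht2
    · exact ht1
    · rw [sq]; exact hsq a a.2
    · intro h
      have h' : (a : G) * u = 1 := h
      exact hautC a a.2 (by rw [h']; exact C.one_mem)
    · have hc : Commute ((a : G) * u) t :=
        mem_centralizer_singleton_iff.mp (hHt (mul_mem (hPH a.2) (hVH huV)))
      show ((a : G) * u * t) ^ 2 = 1
      rw [hc.mul_pow, sq, sq, hsq a a.2, ht2, one_mul]
    · intro h
      exact hautC a a.2 ((eq_inv_of_mul_eq_one_left h).symm ▸ C.inv_mem htC)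
  have hfinj : Function.Injective f := by
    rintro (_ | a | a) (_ | b | b) h <;> simp only [f, Option.elim, Sum.elim_inl, Sum.elim_inr] at h
    · rfl
    · exact absurd (h ▸ htC) (hautC b b.2)
    · exact absurd (mul_eq_right.mp h.symm) (fun h' => hautC b b.2 (h'.symm ▸ C.one_mem))
    · exact absurd (h.symm ▸ htC) (hautC a a.2)
    · rw [Subtype.ext (mul_right_cancel h)]
    · exfalso
      have hc : t = ((b : G) * u)⁻¹ * ((a : G) * u) := by rw [h]; group
      apply htP
      rw [hc, mul_inv_rev,
        show u⁻¹ * (b : G)⁻¹ * ((a : G) * u) = u⁻¹ * ((b : G)⁻¹ * a) * u⁻¹⁻¹ by group, hu_inv,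
        hinv _ (mul_mem (inv_mem b.2) a.2)]
      exact inv_mem (mul_mem (inv_mem b.2) a.2)
    · exact absurd (mul_eq_right.mp h) (fun h' => hautC a a.2 (h'.symm ▸ C.one_mem))
    · exfalso
      have hc : t = ((a : G) * u)⁻¹ * ((b : G) * u) := by rw [← h]; group
      apply htP
      rw [hc, mul_inv_rev,
        show u⁻¹ * (a : G)⁻¹ * ((b : G) * u) = u⁻¹ * ((a : G)⁻¹ * b) * u⁻¹⁻¹ by group, hu_inv,
        hinv _ (mul_mem (inv_mem a.2) b.2)]
      exact inv_mem (mul_mem (inv_mem a.2) b.2)
    · rw [Subtype.ext (mul_right_cancel (mul_right_cancel h))]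
  -- all involutions are conjugate
  have hklein : IsKleinFour (V : Subgroup G) := IsKleinFour.mk hV4 (by
    refine ((Nat.dvd_prime Nat.prime_two).mp (Monoid.exponent_dvd_of_forall_pow_eq_one fun v =>
      Subtype.ext (by rw [SubmonoidClass.coe_pow, sq]; exact hVsq v v.2))).resolve_left fun h => ?_
    have := Monoid.exp_eq_one_iff.mp h
    rw [Nat.card_of_subsingleton (1 : (V : Subgroup G))] at hV4
    omega)
  obtain ⟨g, hg, a, ha, hga⟩ : ∃ g ∈ normalizer ((V : Subgroup G) : Set G),
      ∃ a ∈ (V : Subgroup G), g * a * g⁻¹ ≠ a := by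
    by_contra hc
    push Not at hc
    exact hno 2 Nat.prime_two h2G (hasNormalPComplement_of_burnside V fun n hn =>
      mem_centralizer_iff.mpr fun v hv => by
        have := hc n hn v hv
        calc v * n = n * v * n⁻¹ * n := by rw [this]
          _ = n * v := by group)
  have ha2 : orderOf a = 2 := orderOf_eq_prime (by rw [sq]; exact hVsq a ha)
    (fun h => hga (by rw [h]; group))
  have hconjV : ∀ c ∈ (V : Subgroup G), orderOf c = 2 → IsConj a c := fun c hc hc2 =>
    Invol.klein_isConj_all V hklein ha ((mem_normalizer_iff.mp hg a).mp ha) ha2 (Ne.symm hga)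
      (isConj_iff.mpr ⟨g, rfl⟩) hc hc2
  have hconj : ∀ s : G, orderOf s = 2 → IsConj t s := by
    intro s hs
    obtain ⟨W, hW⟩ := (IsPGroup.of_card (p := 2) (n := 1)
      (by rw [Nat.card_zpowers, hs, pow_one]) : IsPGroup 2 (zpowers s)).exists_le_sylow
    obtain ⟨x, rfl⟩ := MulAction.exists_smul_eq G V W
    have hsW : x⁻¹ * s * x ∈ (V : Subgroup G) := Coprime.mem_conj_smul.mp (hW (mem_zpowers s))
    refine ((hconjV t htV ht₀).symm.trans (hconjV _ hsW ?_)).trans (isConj_iff.mpr ⟨x, by group⟩)
    rw [show x⁻¹ * s * x = x⁻¹ * s * x⁻¹⁻¹ by group, Invol.orderOf_conj, hs]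
  -- there are no others
  have hle15 : Nat.card {y : G // IsConj t y} ≤ 15 := by
    have h1 := Invol.card_isConj_mul_card_centralizer t
    have h2 : Nat.card H ≤ Nat.card (centralizer ({t} : Set G)) :=
      Nat.le_of_dvd Nat.card_pos (card_dvd_of_le hHt)
    refine Nat.le_of_mul_le_mul_right ?_ (Nat.card_pos : 0 < Nat.card H)
    calc Nat.card {y : G // IsConj t y} * Nat.card H
        ≤ Nat.card {y : G // IsConj t y} * Nat.card (centralizer ({t} : Set G)) :=
          Nat.mul_le_mul_left _ h2
      _ = 15 * Nat.card H := by rw [h1, hG, mul_comm]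
  let F : Option ((P : Subgroup G) ⊕ (P : Subgroup G)) → {y : G // IsConj t y} :=
    fun o => ⟨f o, hconj _ (hfinv o)⟩
  have hFbij : Function.Bijective F := by
    refine Function.Injective.bijective_of_nat_card_le (fun o o' h => hfinj (congrArg Subtype.val h)) ?_
    rw [Finite.card_option, Nat.card_sum, hP]
    exact hle15
  have hall : ∀ s : G, orderOf s = 2 → t * s = s * t := by
    intro s hs
    obtain ⟨o, ho⟩ := hFbij.2 ⟨s, hconj s hs⟩
    have : f o = s := congrArg Subtype.val ho
    exact (mem_centralizer_singleton_iff.mp (hHt (this ▸ hfH o))).symm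
  have hcomm2 : ∀ r s : G, orderOf r = 2 → orderOf s = 2 → r * s = s * r := by
    intro r s hr hs
    obtain ⟨g, rfl⟩ := isConj_iff.mp (hconj r hr)
    have h1 := hall (g⁻¹ * s * g) (by rw [show g⁻¹ * s * g = g⁻¹ * s * g⁻¹⁻¹ by group, Invol.orderOf_conj, hs])
    calc g * t * g⁻¹ * s = g * (t * (g⁻¹ * s * g)) * g⁻¹ := by group
      _ = g * (g⁻¹ * s * g * t) * g⁻¹ := by rw [h1]
      _ = s * (g * t * g⁻¹) := by group
  set A : Subgroup G := closure {s : G | orderOf s = 2} with hA
  have hAcomm : IsMulCommutative A := isMulCommutative_closure fun r hr s hs => hcomm2 r s hr hs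
  have hAchar : A.Characteristic := characteristic_iff_map_le.mpr fun φ => by
    rw [hA, MonoidHom.map_closure, closure_le]
    rintro _ ⟨s, hs, rfl⟩
    exact subset_closure (show orderOf (φ s) = 2 by rw [MulEquiv.orderOf_eq]; exact hs)
  rcases hmin A hAchar with h | h
  · exact ht1 (mem_bot.mp (h ▸ (subset_closure ht₀ : t ∈ A)))
  · apply hHC
    intro x _
    refine mem_centralizer_iff.mpr fun y _ => ?_
    exact setLike_mul_comm (S := Subgroup G) (s := A) (h ▸ mem_top y) (h ▸ mem_top x)

end Cfsg.Agent.SylowFifteen
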