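import Mathlib
import Cfsg.Agent.Coprime.Basic
import Cfsg.Agent.Fusion.Control
import Cfsg.Agent.SylowFifteen.Small

/-!
No finite group has exactly fifteen Sylow 7-subgroups.
-/

set_option autoImplicit false

namespace Cfsg.Agent.SylowFifteen

open Subgroup MulAction
open scoped Pointwise

variable {G : Type*} [Group G] [Finite G]

local instance : Fact (Nat.Prime 7) := ⟨by norm_num⟩

theorem eq_of_le_normalizer (P Q : Sylow 7 G)
    (h : (P : Subgroup G) ≤ normalizer ((Q : Subgroup G) : Set G)) : P = Q := by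
  have h1 := IsPGroup.inf_normalizer_sylow P.isPGroup' Q
  rw [inf_eq_left.mpr (show (P : Subgroup G) ≤ normalizer (Q : Set G) from h)] at h1
  exact Sylow.ext (P.3 Q.isPGroup' (h1.le.trans inf_le_right)).symm

/-- The orbit of a Sylow subgroup on another one has seven points when there are fifteen. -/
theorem card_orbit_seven (h15 : Nat.card (Sylow 7 G) = 15) (P Q : Sylow 7 G) (hne : Q ≠ P) :
    (orbit (P : Subgroup G) Q).ncard = 7 := by
  obtain ⟨n, hn⟩ := P.isPGroup'.card_orbit Q
  rw [← Nat.card_coe_set_eq, hn]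
  rcases Nat.lt_or_ge n 2 with h | h
  · interval_cases n
    · exfalso
      apply hne
      refine (eq_of_le_normalizer P Q fun p hp => ?_).symm
      rw [pow_zero, Nat.card_eq_one_iff_unique] at hn
      have := congrArg Subtype.val (hn.1.elim ⟨_, mem_orbit Q (⟨p, hp⟩ : (P : Subgroup G))⟩ ⟨Q, mem_orbit_self Q⟩)
      exact Sylow.smul_eq_iff_mem_normalizer.mp this
    · norm_num
  · exfalso
    have h1 : Nat.card (orbit (P : Subgroup G) Q) ≤ 15 := h15 ▸ Finite.card_subtype_le _
    have h2 : 7 ^ 2 ≤ 7 ^ n := Nat.pow_le_pow_right (by norm_num) h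
    rw [hn] at h1
    omega

theorem faithful_false (h15 : Nat.card (Sylow 7 G) = 15)
    (hfaith : ∀ g : G, (∀ Q : Sylow 7 G, g • Q = Q) → g = 1) : False := by
  classical
  obtain ⟨P⟩ : Nonempty (Sylow 7 G) := inferInstance
  set H := normalizer ((P : Subgroup G) : Set G) with hH
  have hfixP : ∀ g : G, g • P = P ↔ g ∈ H := fun g => Sylow.smul_eq_iff_mem_normalizer
  have hPfix : ∀ g ∈ (P : Subgroup G), g • P = P := fun g hg => (hfixP g).mpr (le_normalizer hg)
  obtain ⟨a, haP⟩ : ∃ a : Sylow 7 G, a ≠ P := by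
    by_contra hc
    push Not at hc
    have : Subsingleton (Sylow 7 G) := ⟨fun x y => by rw [hc x, hc y]⟩
    rw [Nat.card_of_subsingleton P] at h15
    omega
  set O₁ := orbit (P : Subgroup G) a with hO₁
  have hO₁card : O₁.ncard = 7 := card_orbit_seven h15 P a haP
  have hPO₁ : P ∉ O₁ := by
    rintro ⟨q, hq⟩
    apply haP
    have h1 : (q : G) • a = P := hq
    calc a = (q : G)⁻¹ • (q : G) • a := (inv_smul_smul _ _).symm
      _ = P := by rw [h1]; exact hPfix _ (inv_mem q.2)
  obtain ⟨b, hbP, hbO₁⟩ : ∃ b, b ≠ P ∧ b ∉ O₁ := by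
    by_contra hc
    push Not at hc
    have h1 : (Set.univ : Set (Sylow 7 G)) ⊆ insert P O₁ := fun x _ => by
      by_cases hx : x = P
      · exact Or.inl hx
      · exact Or.inr (hc x hx)
    have h2 := Set.ncard_le_ncard h1 (Set.toFinite _)
    rw [Set.ncard_univ, h15, Set.ncard_insert_of_notMem hPO₁, hO₁card] at h2
    omega
  set O₂ := orbit (P : Subgroup G) b with hO₂
  have hO₂card : O₂.ncard = 7 := card_orbit_seven h15 P b hbP
  have hPO₂ : P ∉ O₂ := by
    rintro ⟨q, hq⟩
    apply hbP
    have h1 : (q : G) • b = P := hq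
    calc b = (q : G)⁻¹ • (q : G) • b := (inv_smul_smul _ _).symm
      _ = P := by rw [h1]; exact hPfix _ (inv_mem q.2)
  have hdisj : Disjoint O₁ O₂ := by
    rw [Set.disjoint_left]
    intro x h1 h2
    apply hbO₁
    rw [hO₁, ← orbit_eq_iff.mpr h1, orbit_eq_iff.mpr h2]
    exact mem_orbit_self b
  have hcover : ∀ x : Sylow 7 G, x = P ∨ x ∈ O₁ ∨ x ∈ O₂ := by
    intro x
    have h1 : insert P (O₁ ∪ O₂) = Set.univ := by
      refine Set.eq_of_subset_of_ncard_le (Set.subset_univ _) ?_ (Set.toFinite _)
      rw [Set.ncard_univ, h15, Set.ncard_insert_of_notMem (by simp [hPO₁, hPO₂]),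
        Set.ncard_union_eq hdisj, hO₁card, hO₂card]
    exact (h1.symm ▸ Set.mem_univ x : x ∈ insert P (O₁ ∪ O₂))
  -- elements fixing a point of an orbit fix all of it
  obtain ⟨n, hn⟩ := IsPGroup.iff_card.mp P.isPGroup'
  have hstab : ∀ c : Sylow 7 G, c ≠ P → ∀ s : (P : Subgroup G), s • c = c →
      ∀ x ∈ orbit (P : Subgroup G) c, s • x = x := by
    intro c hc s hs x hx
    obtain ⟨q, rfl⟩ := hx
    have hidx : (stabilizer (P : Subgroup G) c).index = 7 := by
      rw [index_stabilizer, card_orbit_seven h15 P c hc]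
    have hn0 : n ≠ 0 := by
      rintro rfl
      have := hidx ▸ (stabilizer (P : Subgroup G) c).index_dvd_card
      rw [hn] at this
      norm_num at this
    have hnorm : (stabilizer (P : Subgroup G) c).Normal := normal_of_index_eq_minFac_card (by
      rw [hidx, hn, Nat.Prime.pow_minFac (by norm_num) hn0])
    have h1 := hnorm.conj_mem' s (mem_stabilizer_iff.mpr hs) q
    rw [mem_stabilizer_iff, mul_smul, mul_smul, inv_smul_eq_iff] at h1
    exact h1
  have hfix2 : ∀ s : G, s • P = P → (∀ x ∈ O₁, s • x = x) → (∀ x ∈ O₂, s • x = x) → s = 1 :=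
    fun s h0 h1 h2 => hfaith s fun x => by
      rcases hcover x with rfl | h | h
      exacts [h0, h1 x h, h2 x h]
  -- primitivity
  have hprim : IsPreprimitive G (Sylow 7 G) := by
    refine IsPreprimitive.of_isTrivialBlock_base P fun {B} hPB hB => ?_
    by_cases hBs : B.Subsingleton
    · exact Or.inl hBs
    right
    obtain ⟨c, hcB, hcP⟩ : ∃ c ∈ B, c ≠ P := by
      by_contra hc
      push Not at hc
      exact hBs fun x hx y hy => by rw [hc x hx, hc y hy]
    have hsub : insert P (orbit (P : Subgroup G) c) ⊆ B := by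
      rintro x (rfl | ⟨q, rfl⟩)
      · exact hPB
      · have h1 : (q : G) • B = B := hB.smul_eq_of_nonempty ⟨P, ⟨P, hPB, hPfix _ q.2⟩, hPB⟩
        rw [← h1]
        exact Set.smul_mem_smul_set hcB
    have hPc : P ∉ orbit (P : Subgroup G) c := by
      rintro ⟨q, hq⟩
      apply hcP
      have h1 : (q : G) • c = P := hq
      calc c = (q : G)⁻¹ • (q : G) • c := (inv_smul_smul _ _).symm
        _ = P := by rw [h1]; exact hPfix _ (inv_mem q.2)
    have h2 := Set.ncard_le_ncard hsub (Set.toFinite _)
    rw [Set.ncard_insert_of_notMem hPc, card_orbit_seven h15 P c hcP] at h2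
    have h3 := hB.ncard_dvd_card ⟨P, hPB⟩
    rw [h15] at h3
    refine Set.eq_of_subset_of_ncard_le (Set.subset_univ _) ?_ (Set.toFinite _)
    rw [Set.ncard_univ, h15]
    have h4 := Nat.le_of_dvd (by norm_num) h3
    generalize B.ncard = k at h2 h3 h4
    interval_cases k <;> omega
  by_cases hT : ∃ t : (P : Subgroup G), t ≠ 1 ∧ t • a = a
  · -- a large Sylow subgroup makes the group triply transitive
    obtain ⟨t, ht1, hta⟩ := hT
    have htb : t • b ≠ b := fun htb => ht1 (Subtype.ext (hfix2 t (hPfix _ t.2)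
      (hstab a haP t hta) (hstab b hbP t htb)))
    set s : Set (Sylow 7 G) := insert P O₁ with hs
    have hscard : s.ncard = 7 + 1 := by rw [hs, Set.ncard_insert_of_notMem hPO₁, hO₁card]
    have hTs : ∀ u : (P : Subgroup G), u • a = a → (u : G) ∈ fixingSubgroup G s := by
      intro u hu
      rw [mem_fixingSubgroup_iff]
      rintro x (rfl | hx)
      · exact hPfix _ u.2
      · exact hstab a haP u hu x hx
    let T : Subgroup (P : Subgroup G) := stabilizer (P : Subgroup G) a
    have hTp : IsPGroup 7 T := P.isPGroup'.to_subgroup T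
    have horb : orbit T b = O₂ := by
      have hsub : orbit T b ⊆ O₂ := by
        rintro x ⟨u, rfl⟩
        exact mem_orbit b (u : (P : Subgroup G))
      refine Set.eq_of_subset_of_ncard_le hsub ?_ (Set.toFinite _)
      obtain ⟨m, hm⟩ := hTp.card_orbit b
      rw [hO₂card, ← Nat.card_coe_set_eq, hm]
      rcases Nat.eq_zero_or_pos m with rfl | hm0
      · exfalso
        rw [pow_zero, Nat.card_eq_one_iff_unique] at hm
        exact htb (congrArg Subtype.val (hm.1.elim
          ⟨_, mem_orbit b (⟨t, mem_stabilizer_iff.mpr hta⟩ : T)⟩ ⟨b, mem_orbit_self b⟩))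
      · exact Nat.le_self_pow hm0.ne' 7
    have hmem : ∀ x : SubMulAction.ofFixingSubgroup G s, (x : Sylow 7 G) ∈ O₂ := by
      intro x
      have hx := x.2
      rw [SubMulAction.mem_ofFixingSubgroup_iff] at hx
      rcases hcover x with h | h | h
      · exact absurd (Or.inl h) hx
      · exact absurd (Or.inr h) hx
      · exact h
    have hbase : b ∈ SubMulAction.ofFixingSubgroup G s := by
      rw [SubMulAction.mem_ofFixingSubgroup_iff]
      rintro (h | h)
      exacts [hbP h, hbO₁ h]
    have htrans : IsPretransitive (fixingSubgroup G s) (SubMulAction.ofFixingSubgroup G s) := by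
      rw [isPretransitive_iff_base ⟨b, hbase⟩]
      intro x
      obtain ⟨u, hu⟩ := horb.symm ▸ hmem x
      exact ⟨⟨_, hTs u (mem_stabilizer_iff.mp u.2)⟩, Subtype.ext hu⟩
    have hcard7 : Nat.card (SubMulAction.ofFixingSubgroup G s) = 7 := by
      have h1 := Set.ncard_add_ncard_compl s
      rw [hscard, h15] at h1
      have h2 : Nat.card (SubMulAction.ofFixingSubgroup G s) = (sᶜ : Set _).ncard := by
        rw [← Nat.card_coe_set_eq]; rfl
      omega
    have hp7 : IsPreprimitive (fixingSubgroup G s) (SubMulAction.ofFixingSubgroup G s) :=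
      IsPreprimitive.of_prime_card (by rw [hcard7]; norm_num)
    have h9 := hprim.isMultiplyPreprimitive hscard (by rw [h15]; norm_num) hp7
    have h3 : IsMultiplyPretransitive G (Sylow 7 G) 3 := by
      have := h9.isMultiplyPretransitive
      exact isMultiplyPretransitive_of_le (n := 7 + 2) (by norm_num) (by rw [h15]; norm_num)
    obtain ⟨a', ha', hne⟩ : ∃ a' ∈ O₁, a' ≠ a := Set.exists_ne_of_one_lt_ncard (by omega) a
    have hbnea : b ≠ a := fun h => hbO₁ (h ▸ mem_orbit_self a)
    have ha'P : a' ≠ P := fun h => hPO₁ (h ▸ ha')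
    let e₁ : Fin 3 ↪ Sylow 7 G := ⟨![P, a, a'], by
      intro i j hij
      fin_cases i <;> fin_cases j <;>
        first | rfl | exact absurd hij haP.symm | exact absurd hij haP | exact absurd hij ha'P.symm |
          exact absurd hij ha'P | exact absurd hij hne.symm | exact absurd hij hne⟩
    let e₂ : Fin 3 ↪ Sylow 7 G := ⟨![P, a, b], by
      intro i j hij
      fin_cases i <;> fin_cases j <;>
        first | rfl | exact absurd hij haP.symm | exact absurd hij haP | exact absurd hij hbP.symm |
          exact absurd hij hbP | exact absurd hij hbnea.symm | exact absurd hij hbnea⟩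
    obtain ⟨g, hg⟩ := h3.exists_smul_eq e₁ e₂
    have hgP : g • P = P := congrArg (fun e : Fin 3 ↪ Sylow 7 G => e 0) hg
    have hga : g • a = a := congrArg (fun e : Fin 3 ↪ Sylow 7 G => e 1) hg
    have hga' : g • a' = b := congrArg (fun e : Fin 3 ↪ Sylow 7 G => e 2) hg
    obtain ⟨q, rfl⟩ := ha'
    apply hbO₁
    refine ⟨⟨g * q * g⁻¹, (mem_normalizer_iff.mp ((hfixP g).mp hgP) q).mp q.2⟩, ?_⟩
    show (g * q * g⁻¹) • a = b
    have hgi : g⁻¹ • a = a := inv_smul_eq_iff.mpr hga.symm
    rw [mul_smul, mul_smul, hgi]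
    exact hga'
  push Not at hT
  have hP7 : Nat.card (P : Subgroup G) = 7 := by
    have h1 : (stabilizer (P : Subgroup G) a).index = 7 := by rw [index_stabilizer, hO₁card]
    have h2 : stabilizer (P : Subgroup G) a = ⊥ := by
      rw [Subgroup.eq_bot_iff_forall]
      intro t ht
      by_contra hne
      exact hT t hne (mem_stabilizer_iff.mp ht)
    rw [h2, index_bot] at h1
    exact h1
  set C := centralizer ((P : Subgroup G) : Set G) with hC
  have hCH : C ≤ H := centralizer_le_normalizer _
  have hPcomm : IsMulCommutative (P : Subgroup G) :=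
    have := isCyclic_of_prime_card hP7
    IsCyclic.isMulCommutative
  have hPC : (P : Subgroup G) ≤ C := le_centralizer _
  have hcomm : ∀ x ∈ C, ∀ q : (P : Subgroup G), ∀ z : Sylow 7 G, x • q • z = q • x • z := by
    intro x hx q z
    show x • (q : G) • z = (q : G) • x • z
    rw [smul_smul, smul_smul, ← mem_centralizer_iff.mp hx q q.2]
  -- an element of the centralizer keeping the orbit of `a` lies in `P`
  have hin : ∀ x ∈ C, x • a ∈ O₁ → x ∈ (P : Subgroup G) := by
    intro x hx hxa
    obtain ⟨q, hq⟩ := hxa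
    set y := (q : G)⁻¹ * x with hy
    have hyC : y ∈ C := mul_mem (inv_mem (hPC q.2)) hx
    have hya : y • a = a := by
      rw [hy, mul_smul, inv_smul_eq_iff]
      exact hq.symm
    have hyP : y • P = P := (hfixP y).mpr (hCH hyC)
    have hy1 : ∀ z ∈ O₁, y • z = z := by
      rintro z ⟨r, rfl⟩
      show y • r • a = r • a
      rw [hcomm y hyC, hya]
    have hyb : y • b ∈ O₂ := by
      rcases hcover (y • b) with h | h | h
      · exact absurd (smul_left_cancel y (h.trans hyP.symm)) hbP
      · exfalso
        apply hbO₁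
        rwa [smul_left_cancel y (hy1 _ h) ] at h
      · exact h
    obtain ⟨r, hr⟩ := hyb
    have hr' : y • b = r • b := hr.symm
    have hpow : ∀ i : ℕ, (y ^ i) • b = (r ^ i) • b := by
      intro i
      induction i with
      | zero => simp
      | succ i ih =>
        rw [pow_succ', mul_smul, ih, hcomm y hyC, hr', ← mul_smul, ← pow_succ]
    have hy7 : y ^ 7 = 1 := by
      have hfixpow : ∀ z : Sylow 7 G, y • z = z → ∀ i : ℕ, (y ^ i) • z = z := fun z hz i =>
        (stabilizer G z).pow_mem hz i
      refine hfix2 _ (hfixpow _ hyP 7) (fun z hz => hfixpow _ (hy1 z hz) 7) ?_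
      rintro z ⟨w, rfl⟩
      show (y ^ 7) • w • b = w • b
      have hr7 : r ^ 7 = 1 := by
        have h := pow_card_eq_one' (x := r)
        rwa [hP7] at h
      rw [hcomm _ (C.pow_mem hyC 7), hpow, hr7, one_smul]
    have hyin : y ∈ (P : Subgroup G) := by
      have hp : IsPGroup 7 (zpowers y) := fun z => ⟨1, by
        obtain ⟨_, i, rfl⟩ := z
        apply Subtype.ext
        show (y ^ i) ^ (7 ^ 1) = 1
        rw [pow_one, ← zpow_natCast, ← zpow_mul, mul_comm, zpow_mul, zpow_natCast, hy7, one_zpow]⟩
      have h1 := IsPGroup.inf_normalizer_sylow hp P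
      have h2 : y ∈ zpowers y ⊓ normalizer ((P : Subgroup G) : Set G) := ⟨mem_zpowers y, hCH hyC⟩
      exact ((h1 ▸ h2 : y ∈ zpowers y ⊓ (P : Subgroup G))).2
    have : x = (q : G) * y := by rw [hy, mul_inv_cancel_left]
    rw [this]
    exact mul_mem q.2 hyin
  have hC14 : Nat.card C ∣ 14 := by
    have hi : Nat.card (C ⧸ (P : Subgroup G).subgroupOf C) ≤ 2 := by
      refine (Nat.card_le_card_of_injective
        (fun c : C ⧸ (P : Subgroup G).subgroupOf C => decide (c = ((1 : C) : C ⧸ (P : Subgroup G).subgroupOf C)))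
        ?_).trans (by simp)
      intro c d hcd
      simp only [decide_eq_decide] at hcd
      by_cases hc : c = ((1 : C) : C ⧸ (P : Subgroup G).subgroupOf C)
      · rw [hc, hcd.mp hc]
      have hd := fun h => hc (hcd.mpr h)
      obtain ⟨⟨x, hx⟩, rfl⟩ := QuotientGroup.mk_surjective c
      obtain ⟨⟨y, hy⟩, rfl⟩ := QuotientGroup.mk_surjective d
      have hout : ∀ z (hz : z ∈ C), ((⟨z, hz⟩ : C) : C ⧸ (P : Subgroup G).subgroupOf C) ≠
          ((1 : C) : C ⧸ (P : Subgroup G).subgroupOf C) → z • a ∈ O₂ := by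
        intro z hz hne
        rcases hcover (z • a) with h | h | h
        · exact absurd (smul_left_cancel z (h.trans ((hfixP z).mpr (hCH hz)).symm)) haP
        · exfalso
          apply hne
          rw [QuotientGroup.eq, mem_subgroupOf]
          simpa using hin z hz h
        · exact h
      have h1 := hout x hx hc
      have h2 := hout y hy hd
      have h2' : y • a ∈ orbit (P : Subgroup G) (x • a) := by rw [orbit_eq_iff.mpr h1]; exact h2
      obtain ⟨w, hw⟩ := h2'
      rw [QuotientGroup.eq, mem_subgroupOf]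
      show x⁻¹ * y ∈ (P : Subgroup G)
      have h3 : x⁻¹ * y = (w : G) * (((w : G) * x)⁻¹ * y) := by
        have hwx : x⁻¹ * (w : G) = (w : G) * x⁻¹ :=
          (mem_centralizer_iff.mp (inv_mem hx) w w.2).symm
        rw [mul_inv_rev]
        calc x⁻¹ * y = x⁻¹ * (w : G) * (w : G)⁻¹ * y := by group
          _ = (w : G) * x⁻¹ * (w : G)⁻¹ * y := by rw [hwx]
          _ = (w : G) * (x⁻¹ * (w : G)⁻¹ * y) := by group
      rw [h3]
      refine mul_mem w.2 (hin _ (mul_mem (inv_mem (mul_mem (hPC w.2) hx)) hy) ?_)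
      have h4 : (((w : G) * x)⁻¹ * y) • a = a := by
        rw [mul_smul, inv_smul_eq_iff, mul_smul]
        exact hw.symm
      rw [h4]
      exact mem_orbit_self a
    have h1 := ((P : Subgroup G).subgroupOf C).card_mul_index
    rw [Nat.card_congr (subgroupOfEquivOfLe hPC).toEquiv, hP7, index_eq_card] at h1
    rw [← h1]
    have hpos : 0 < Nat.card (C ⧸ (P : Subgroup G).subgroupOf C) := Nat.card_pos
    generalize Nat.card (C ⧸ (P : Subgroup G).subgroupOf C) = k at hi hpos
    interval_cases k <;> norm_num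
  have hcardG : Nat.card G ∣ 1260 := by
    have hPcyc : IsCyclic (P : Subgroup G) := isCyclic_of_prime_card hP7
    have key := card_dvd_of_injective _
      (QuotientGroup.kerLift_injective (P : Subgroup G).normalizerMonoidHom)
    rw [normalizerMonoidHom_ker, ← index, ← relIndex, hPcyc.card_mulAut, hP7,
      Nat.totient_prime (by norm_num)] at key
    have hcH : Nat.card C * C.relIndex H = Nat.card H := by
      rw [← relIndex_bot_left, ← relIndex_bot_left]
      exact relIndex_mul_relIndex ⊥ C H bot_le hCH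
    have hidx : H.index = 15 := by rw [hH, ← h15]; exact (P.card_eq_index_normalizer).symm
    rw [← card_mul_index H, hidx, ← hcH, show 1260 = 14 * 6 * 15 from rfl]
    exact Nat.mul_dvd_mul_right (Nat.mul_dvd_mul hC14 key) 15
  -- nontrivial normal subgroups are transitive and contain `P`
  have htransN : ∀ M : Subgroup G, M.Normal → M ≠ ⊥ → IsPretransitive M (Sylow 7 G) := by
    intro M _ hM
    refine IsQuasiPreprimitive.isPretransitive_of_normal (G := G) fun h => hM ?_
    rw [Subgroup.eq_bot_iff_forall]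
    intro m hm
    refine hfaith m fun Q => ?_
    have hQ : Q ∈ fixedPoints M (Sylow 7 G) := h ▸ Set.mem_univ Q
    exact hQ ⟨m, hm⟩
  have hPM : ∀ M : Subgroup G, M.Normal → M ≠ ⊥ → (P : Subgroup G) ≤ M := by
    intro M hMn hM
    have := htransN M hMn hM
    have h5M : 5 ∣ Nat.card M := by
      have h1 := index_stabilizer_of_transitive M P
      rw [h15] at h1
      exact (by norm_num : 5 ∣ 15).trans (h1 ▸ index_dvd_card _)
    have h7M : 7 ∣ Nat.card M := by
      by_contra h7
      have : Fact (Nat.Prime 5) := ⟨by norm_num⟩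
      have hPs : Group.IsSolvable (P : Subgroup G) :=
        IsNilpotent.to_isSolvable (h := P.isPGroup'.isNilpotent)
      obtain ⟨Q, hQ⟩ := Coprime.exists_invariant_sylow (A := (P : Subgroup G)) (K := M)
        (by rw [normalizer_eq_top]; exact le_top)
        (by rw [hP7]; exact (Nat.Prime.coprime_iff_not_dvd (by norm_num)).mpr h7) (Or.inl hPs) 5
      set Q' := (Q : Subgroup M).map M.subtype with hQ'
      obtain ⟨j, hj⟩ := IsPGroup.iff_card.mp Q.isPGroup'
      have hQc : Nat.card Q' = 5 ^ j := by rw [hQ', card_map_of_injective M.subtype_injective, hj]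
      have hj0 : j ≠ 0 := by
        rintro rfl
        have := Q.dvd_card_of_dvd_card h5M
        rw [hj] at this
        norm_num at this
      have hj1 : j = 1 := by
        by_contra hj1
        have h25 : 5 ^ 2 ∣ Nat.card G :=
          (pow_dvd_pow 5 (by omega : 2 ≤ j)).trans (hQc ▸ card_subgroup_dvd_card _)
        have := h25.trans hcardG
        norm_num at this
      have hcent : Q' ≤ C := by
        intro z hz
        rw [hC, mem_centralizer_iff]
        intro p hp
        have hpo : ∃ k, orderOf p ∣ 7 ^ k := ⟨1, by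
          rw [pow_one]; exact hP7 ▸ Subgroup.orderOf_dvd_natCard _ hp⟩
        have h1 := Fusion.mem_centralizer_of_card_modEq (q := 7) (hQ hp) hpo fun d hd hne => by
          rw [hQc, hj1, pow_one] at hd hne ⊢
          have hd5 : d = 1 := ((Nat.dvd_prime (by norm_num)).mp hd).resolve_right hne
          subst hd5
          decide
        exact (mem_centralizer_iff.mp h1 z hz).symm
      have h5C : 5 ∣ Nat.card C := by
        have := card_dvd_of_le hcent
        rwa [hQc, hj1, pow_one] at this
      have := h5C.trans hC14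
      norm_num at this
    obtain ⟨z, hz⟩ := exists_prime_orderOf_dvd_card' 7 h7M
    obtain ⟨S, hS⟩ := (IsPGroup.of_card (p := 7) (n := 1)
      (by rw [Nat.card_zpowers, Subgroup.orderOf_coe, hz, pow_one]) : IsPGroup 7 (zpowers (z : G))).exists_le_sylow
    obtain ⟨g, rfl⟩ := exists_smul_eq G P S
    have hcardS : Nat.card ((g • P : Sylow 7 G) : Subgroup G) = 7 := by
      rw [Sylow.coe_subgroup_smul, Coprime.card_conj_smul, hP7]
    have hSM : ((g • P : Sylow 7 G) : Subgroup G) ≤ M := by
      refine le_trans ?_ (zpowers_le.mpr z.2)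
      refine (eq_of_le_of_card_ge hS ?_).ge
      rw [hcardS, Nat.card_zpowers, Subgroup.orderOf_coe, hz]
    intro p hp
    have h1 : g * p * g⁻¹ ∈ M := hSM (by
      rw [Sylow.coe_subgroup_smul, Coprime.mem_conj_smul]
      simpa [mul_assoc] using hp)
    have h2 := hMn.conj_mem' _ h1 g
    simpa [mul_assoc] using h2
  set N := normalClosure ((P : Subgroup G) : Set G) with hN
  have hPN : (P : Subgroup G) ≤ N := subset_normalClosure
  have hNb : N ≠ ⊥ := fun h => by
    have h1 := card_dvd_of_le hPN
    rw [h, card_bot, hP7] at h1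
    norm_num at h1
  have hNn : N.Normal := normalClosure_normal
  have := htransN N hNn hNb
  refine no_small (G := N) (P.subtype hPN) ?_ ?_ ?_ ?_
  · rw [P.coe_subtype, Nat.card_congr (subgroupOfEquivOfLe hPN).toEquiv, hP7]
  · rw [P.coe_subtype]
    refine dvd_trans ?_ hC14
    rw [← card_map_of_injective N.subtype_injective]
    refine card_dvd_of_le ?_
    rintro _ ⟨x, hx, rfl⟩
    rw [hC, mem_centralizer_iff]
    intro p hp
    exact congrArg Subtype.val (mem_centralizer_iff.mp hx ⟨p, hPN hp⟩ hp)
  · rw [Sylow.card_eq_index_normalizer (P.subtype hPN), ← Sylow.coe_coe, P.coe_subtype,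
      ← subgroupOf_normalizer_eq hPN, ← h15, ← index_stabilizer_of_transitive N P]
    congr 1
    ext x
    rw [mem_subgroupOf, mem_stabilizer_iff]
    exact (hfixP x).symm
  · intro K hK
    by_cases hKb : K.map N.subtype = ⊥
    · left; exact (map_eq_bot_iff_of_injective _ N.subtype_injective).mp hKb
    right
    have hKn : (K.map N.subtype).Normal := inferInstance
    have h1 : N ≤ K.map N.subtype := normalClosure_le_normal (hPM _ hKn hKb)
    rw [eq_top_iff]
    intro x _
    obtain ⟨y, hy, hyx⟩ := h1 x.2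
    rwa [← Subtype.ext hyx]

theorem card_sylow_seven_ne_fifteen : Nat.card (Sylow 7 G) ≠ 15 := by
  intro h15
  set K := (toPermHom G (Sylow 7 G)).ker with hK
  have hmemK : ∀ k ∈ K, ∀ Q : Sylow 7 G, k • Q = Q := fun k hk Q =>
    Equiv.Perm.ext_iff.mp (MonoidHom.mem_ker.mp hk) Q
  let f := QuotientGroup.mk' K
  have hs : Function.Surjective f := QuotientGroup.mk'_surjective K
  have hinj : Function.Injective (fun Q : Sylow 7 G => Q.mapSurjective hs) := by
    intro Q Q' h
    have h1 : (Q : Subgroup G).map f = (Q' : Subgroup G).map f := by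
      have := congrArg (fun S : Sylow 7 (G ⧸ K) => (S : Subgroup (G ⧸ K))) h
      simpa only [Sylow.coe_mapSurjective] using this
    apply eq_of_le_normalizer
    intro q hq
    obtain ⟨q', hq', hqq⟩ := h1 ▸ mem_map_of_mem f hq
    have hk : q'⁻¹ * q ∈ K := QuotientGroup.eq.mp hqq
    have hkN : q'⁻¹ * q ∈ normalizer ((Q' : Subgroup G) : Set G) :=
      Sylow.smul_eq_iff_mem_normalizer.mp (hmemK _ hk Q')
    have := mul_mem (le_normalizer hq') hkN
    rwa [mul_inv_cancel_left] at this
  have hbij : Function.Bijective (fun Q : Sylow 7 G => Q.mapSurjective hs) :=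
    ⟨hinj, Sylow.mapSurjective_surjective hs 7⟩
  refine faithful_false (G := G ⧸ K) (by rw [← Nat.card_congr (Equiv.ofBijective _ hbij), h15]) ?_
  intro q hq
  obtain ⟨g, rfl⟩ := hs q
  refine (QuotientGroup.eq_one_iff g).mpr (MonoidHom.mem_ker.mpr (Equiv.Perm.ext fun Q => ?_))
  apply hinj
  show (g • Q).mapSurjective hs = Q.mapSurjective hs
  refine Eq.trans ?_ (hq (Q.mapSurjective hs))
  apply Sylow.ext
  rw [Sylow.coe_mapSurjective, Sylow.coe_subgroup_smul, Sylow.coe_subgroup_smul, Sylow.coe_mapSurjective,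
    Coprime.conj_smul_eq_map, Coprime.conj_smul_eq_map, Subgroup.map_map, Subgroup.map_map]
  congr 1

end Cfsg.Agent.SylowFifteen
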